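import Groth.Agent.PlaneCurveLib.Coh
import Groth.Agent.SteinLib.Conn

/-!
# Plane curves are connected
-/

set_option autoImplicit false
set_option linter.unusedSectionVars false
set_option linter.style.haveILetI false
universe u

open CategoryTheory CategoryTheory.Limits AlgebraicGeometry TopologicalSpace

noncomputable section

namespace PlaneCurveLib

variable {k : Type u} [Field k] {d : ℕ}

/-- A plane curve is connected. -/
theorem connectedSpace_plane (G : LefPen.Form 2 k d) (hG : G ≠ 0) (hd : 1 ≤ d)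
    [((LefPen.hypIdeal G).subscheme).Over (Spec (CommRingCat.of k))]
    (hinst : (LefPen.hypIdeal G).subscheme ↘ (Spec (CommRingCat.of k)) =
      (LefPen.hypIdeal G).subschemeι ≫ CohB1.ProjSpace.toSpec 2 k) :
    ConnectedSpace ↥((LefPen.hypIdeal G).subscheme) := by
  let C := (LefPen.hypIdeal G).subscheme
  have h0 := (finrank_HH_plane G hG hd hinst).1
  letI := GenusZeroLib.kmod k (Coh.structureModule C)
  rw [(GenusZeroLib.e0k k (Coh.structureModule C)).finrank_eq] at h0
  haveI : Nontrivial Γ(Coh.structureModule C, ⊤) := Module.nontrivial_of_finrank_pos (R := k) (by omega)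
  haveI : Nontrivial Γ(C, ⊤) := ‹Nontrivial Γ(Coh.structureModule C, ⊤)›
  refine SteinLib.connectedSpace_of_appTop (C ↘ Spec (CommRingCat.of k)) ?_
  have h1 : IsIso ((Scheme.ΓSpecIso (CommRingCat.of k)).inv ≫ (C ↘ Spec (CommRingCat.of k)).appTop) := by
    rw [ConcreteCategory.isIso_iff_bijective]
    refine ⟨RingHom.injective (GenusZeroLib.ρ k (X := C)), fun x => ?_⟩
    obtain ⟨c, hc⟩ := exists_smul_eq_of_finrank_eq_one h0 (x := (show Γ(Coh.structureModule C, ⊤) from (1 : Γ(C, ⊤))))
      (show (1 : Γ(C, ⊤)) ≠ 0 from one_ne_zero) (show Γ(Coh.structureModule C, ⊤) from x)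
    exact ⟨c, (mul_one _).symm.trans hc⟩
  exact IsIso.of_isIso_comp_left (Scheme.ΓSpecIso (CommRingCat.of k)).inv _

end PlaneCurveLib
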