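import Groth.Agent.PlaneCurveLib.Degree
import Groth.Agent.PlaneCubicLib.Map
import Groth.Agent.CurveDualLib.GenusField
import Groth.Agent.TwistLib.PtApp
import Groth.Agent.TwistLib.PullGen

/-!
# The coordinates of a plane curve in its function field
-/

set_option autoImplicit false
set_option linter.style.haveILetI false
set_option linter.unusedSectionVars false

universe u

open CategoryTheory CategoryTheory.Limits AlgebraicGeometry TopologicalSpace Opposite MvPolynomial
open GradedCechLib (deh deh_surjective deh_X_self deh_C)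
open DevissLib WithZero
open CurveDualLib

noncomputable section

namespace PlaneCurveLib

attribute [local instance] CurveDualLib.algFF

variable {k : Type u} [Field k] {d : ℕ}

/-- **A plane curve of degree `d` has a plane model of degree `d`.** -/
theorem exists_coords (G : LefPen.Form 2 k d) (hG : G ≠ 0) (hd : 1 ≤ d)
    [((LefPen.hypIdeal G).subscheme).Over (Spec (CommRingCat.of k))]
    (hinst : (LefPen.hypIdeal G).subscheme ↘ (Spec (CommRingCat.of k)) =
      (LefPen.hypIdeal G).subschemeι ≫ CohB1.ProjSpace.toSpec 2 k)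
    [IsIntegral (LefPen.hypIdeal G).subscheme]
    [Smooth ((LefPen.hypIdeal G).subscheme ↘ (Spec (CommRingCat.of k)))]
    [IsProper ((LefPen.hypIdeal G).subscheme ↘ (Spec (CommRingCat.of k)))]
    (hdim : topologicalKrullDim (LefPen.hypIdeal G).subscheme = 1) :
    ∃ (x y : (LefPen.hypIdeal G).subscheme.functionField)
      (D : FunFld.Divisor k (LefPen.hypIdeal G).subscheme.functionField),
      D.deg ≤ d ∧ 1 ∈ FunFld.L D ∧ x ∈ FunFld.L D ∧ y ∈ FunFld.L D ∧
      IntermediateField.adjoin k ({x, y} : Set (LefPen.hypIdeal G).subscheme.functionField) = ⊤ := by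
  classical
  have h0 := (finrank_HH_plane G hG hd hinst).1
  let C := (LefPen.hypIdeal G).subscheme
  let ι : C ⟶ CohB1.ProjSpace 2 k := (LefPen.hypIdeal G).subschemeι
  let T := Twist.twistProjSpace 2 k 1
  let L := hyperplane G
  have hL : PicF.IsInvertible L := isInvertible_hyperplane G
  let η := genericPoint C
  have hX : ∀ l : Fin 3, (X l : MvPolynomial (Fin 3) k) ∈ CohB1.polyGrading 2 k 1 := GradedCechLib.X_mem 2 k
  let V : Fin 3 → C.Opens := fun i => ι ⁻¹ᵁ QCohLib.stdOpen 2 k i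
  have hcov : ∀ x : C, ∃ i, x ∈ V i := fun x => by
    have h : ι x ∈ ⨆ i, QCohLib.stdOpen 2 k i := by rw [QCohLib.iSup_stdOpen]; trivial
    obtain ⟨i, hi⟩ := Opens.mem_iSup.mp h
    exact ⟨i, hi⟩
  let gen : ∀ i, Γ(T, QCohLib.stdOpen 2 k i) := fun i =>
    AmpleLib.res T (le_top : QCohLib.stdOpen 2 k i ≤ ⊤) (Twist.globalOf (CohB1.polyGrading 2 k) ⟨X i, hX i⟩)
  let e : ∀ i, Γ(L, V i) := fun i => KFlatLib.puSec ι (gen i)
  have hgen : ∀ i (x : C) (hx : x ∈ V i), IsGen L x (gm L x hx (e i)) := fun i x hx =>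
    TwistLib.GenAt.puSec ι ((TwistLib.globalOf_genOn (CohB1.polyGrading 2 k) (hX i)).genAt (x := ι x) hx)
  let s : ∀ _ : Fin 3, Γ(L, ι ⁻¹ᵁ ⊤) := fun l =>
    KFlatLib.puSec ι (show Γ(T, ⊤) from Twist.globalOf (CohB1.polyGrading 2 k) ⟨X l, hX l⟩)
  let u : ∀ (i : Fin 3), η ∈ V i → Fin 3 → C.functionField := fun i hi l =>
    C.presheaf.germ (V i) η hi (ι.app (QCohLib.stdOpen 2 k i) (deh 2 k i (X l)))
  have hres : ∀ i l, KFlatLib.puSec ι
      (AmpleLib.res T (le_top : QCohLib.stdOpen 2 k i ≤ ⊤) (Twist.globalOf (CohB1.polyGrading 2 k) ⟨X l, hX l⟩)) =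
      L.presheaf.map (homOfLE (le_top : V i ≤ ι ⁻¹ᵁ ⊤)).op (s l) := fun i l =>
    QCohLib.app_map ((Scheme.Modules.pullbackPushforwardAdjunction ι).unit.app T) _ _
  have hrel : ∀ (i : Fin 3) (hi : η ∈ V i) (l : Fin 3),
      gm L η (show η ∈ ι ⁻¹ᵁ ⊤ from trivial) (s l) =
        ((u i hi l : C.functionField) : C.presheaf.stalk η) • gm L η hi (e i) := by
    intro i hi l
    have h1 : (show Γ(CohB1.ProjSpace 2 k, QCohLib.stdOpen 2 k i) from deh 2 k i (X l)) • gen i =
        AmpleLib.res T le_top (Twist.globalOf (CohB1.polyGrading 2 k) ⟨X l, hX l⟩) := by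
      rw [← fr_eq_deh (⟨X l, hX l⟩ : LefPen.Form 2 k 1) i]
      exact TwistLib.frac_smul_globalOf (CohB1.polyGrading 2 k) (hX i) (hX l)
    have h2 := congrArg (fun m => gm L η hi (KFlatLib.puSec ι m)) h1
    simp only [KFlatLib.puSec_smul, hres] at h2
    refine (h2.trans (gm_map L (le_top : V i ≤ ι ⁻¹ᵁ ⊤) η hi (s l))).symm.trans ?_
    exact gm_smul L η hi (ι.app (QCohLib.stdOpen 2 k i) (deh 2 k i (X l))) (e i)
  have hself : ∀ (i : Fin 3) (hi : η ∈ V i), u i hi i = 1 := fun i hi => by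
    show C.presheaf.germ (V i) η hi (ι.app _ (deh 2 k i (X i))) = 1
    rw [deh_X_self]
    simp
  obtain ⟨j, hj⟩ := hcov η
  obtain ⟨D, hD⟩ := exists_isDiv (k := k) hdim hL (hgen j η hj)
  have hdeg : D.deg ≤ d := by
    rw [← deg_eq_deg' hdim hL h0 (hgen j η hj) hD, deg_hyperplane G hG hinst]
  have hmem : ∀ l, u j hj l ∈ FunFld.L D := fun l P => by
    obtain ⟨x, hx, rfl⟩ := exists_point (k := k) hdim P
    obtain ⟨i, hxi⟩ := hcov x
    have hi : η ∈ V i := mem_of_nonempty hxi
    have hg : gm L η hj (e j) = ((u i hi j : C.functionField) : C.presheaf.stalk η) • sp L x (gm L x hxi (e i)) := by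
      rw [sp_gm, ← hrel i hi j, hrel j hj j, hself j hj]
      exact (one_smul _ _).symm
    have hg0 : u i hi j ≠ 0 := fun h => ne_zero_of_isGen hL (hgen j η hj) (by
      rw [hg, h]
      exact zero_smul _ _)
    have hord := IsDiv.spec hdim hL hD hx (hgen i x hxi) hg0 hg
    have hmul : u j hj l * u i hi j = u i hi l := by
      refine (hgen i η hi).1 ?_
      show ((u j hj l * u i hi j : C.functionField) : C.presheaf.stalk η) • gm L η hi (e i) =
        ((u i hi l : C.functionField) : C.presheaf.stalk η) • gm L η hi (e i)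
      rw [← hrel i hi l, hrel j hj l, hg, sp_gm, smul_smul]
    have h3 : (ptPlace (k := k) hdim hx).1 (u j hj l * u i hi j) ≤ 1 := by
      rw [hmul, ptPlace_val, ptVal_le_one_iff]
      exact ⟨C.presheaf.germ (V i) x hxi (ι.app _ (deh 2 k i (X l))), toFF_germ hxi _⟩
    rw [map_mul, Groth.Agent.FFLib.v_eq _ hg0, hord, exp_neg, ← div_eq_mul_inv, div_le_one₀ exp_pos] at h3
    exact h3
  refine ⟨u j hj (j + 1), u j hj (j + 2), D, hdeg, hself j hj ▸ hmem j, hmem _, hmem _, ?_⟩
  let F := IntermediateField.adjoin k ({u j hj (j + 1), u j hj (j + 2)} : Set C.functionField)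
  have hz : ∀ l, u j hj l ∈ F := fun l => by
    have key : ∀ a b : Fin 3, a = b ∨ a = b + 1 ∨ a = b + 2 := by decide
    obtain h | h | h := key l j
    · rw [h, hself]; exact one_mem F
    · rw [h]; exact IntermediateField.subset_adjoin k _ (Or.inl rfl)
    · rw [h]; exact IntermediateField.subset_adjoin k _ (Or.inr rfl)
  have hgerm : ∀ q : MvPolynomial (Fin 3) k,
      C.presheaf.germ (V j) η hj (ι.app (QCohLib.stdOpen 2 k j) (deh 2 k j q)) ∈ F := by
    intro q
    induction q using MvPolynomial.induction_on with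
    | C c =>
      rw [deh_C, PlaneCubicLib.germ_app_cstOn hinst.symm]
      exact F.algebraMap_mem c
    | add p q hp hq => simp only [map_add]; exact add_mem hp hq
    | mul_X p l hp => simp only [map_mul]; exact mul_mem hp (hz l)
  have hA : IsAffineOpen (QCohLib.stdOpen 2 k j) :=
    Proj.isAffineOpen_basicOpen _ _ (hX j) one_pos
  haveI : Nonempty (V j) := ⟨⟨η, hj⟩⟩
  haveI := functionField_isFractionRing_of_isAffineOpen C (V j) (hA.preimage ι)
  refine eq_top_iff.mpr fun z _ => ?_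
  obtain ⟨a, b, -, rfl⟩ := IsFractionRing.div_surjective (Γ(C, V j)) z
  obtain ⟨a, rfl⟩ := ι.app_surjective (QCohLib.stdOpen 2 k j) hA a
  obtain ⟨b, rfl⟩ := ι.app_surjective (QCohLib.stdOpen 2 k j) hA b
  obtain ⟨p, rfl⟩ := deh_surjective 2 k j a
  obtain ⟨q, rfl⟩ := deh_surjective 2 k j b
  exact div_mem (hgerm p) (hgerm q)

end PlaneCurveLib

end
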