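import Groth.Agent.CurveDualLib.GenusField
import Groth.Agent.AVAmpleLib.Degree
import Groth.Agent.DegPullLib.Rank

/-!
# The function field extension of a finite flat map of curves
-/

set_option autoImplicit false
set_option linter.style.haveILetI false
set_option linter.unusedSectionVars false

universe u

open CategoryTheory CategoryTheory.Limits AlgebraicGeometry TopologicalSpace Opposite

noncomputable section

namespace PlaneCurveLib

attribute [local instance] CurveDualLib.algFF

variable {k : Type u} [Field k] {X Y : Scheme.{u}} [X.Over (Spec (CommRingCat.of k))]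
  [Y.Over (Spec (CommRingCat.of k))] [IsIntegral X] [IsIntegral Y]
  [Smooth (X ↘ Spec (CommRingCat.of k))] [IsProper (X ↘ Spec (CommRingCat.of k))]
  [Smooth (Y ↘ Spec (CommRingCat.of k))] [IsProper (Y ↘ Spec (CommRingCat.of k))]
  (hdim : topologicalKrullDim X = 1) (hdimY : topologicalKrullDim Y = 1) (f : X ⟶ Y) [IsFinite f]

include k hdim hdimY in
/-- A finite map of curves is dominant. -/
theorem gen_to_gen : f (genericPoint X) = genericPoint Y := by
  by_contra hne
  have hy : IsClosed ({f (genericPoint X)} : Set Y) := CurveDualLib.isClosed_of_ne_generic (k := k) hdimY hne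
  have hall : ∀ z : X, f z = f (genericPoint X) := fun z => Set.mem_singleton_iff.mp
    ((((genericPoint_spec X).specializes trivial).map f.continuous).mem_closed hy (Set.mem_singleton _))
  haveI : DiscreteTopology X := by
    refine isDiscrete_univ_iff.mp ?_
    rw [show (Set.univ : Set X) = f ⁻¹' {f (genericPoint X)} from (Set.eq_univ_of_forall fun z => hall z).symm]
    exact f.isDiscrete_preimage_singleton _
  haveI : Subsingleton X := ⟨fun a b =>
    (((genericPoint_spec X).specializes (trivial : a ∈ Set.univ)).eq).symm.trans
      ((genericPoint_spec X).specializes (trivial : b ∈ Set.univ)).eq⟩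
  have h0 := topologicalKrullDim_zero_of_discreteTopology X
  rw [hdim] at h0
  exact absurd h0 (by simp)

include k hdim hdimY in
/-- The extension of function fields of a finite flat map has its degree. -/
theorem exists_extension (hf : f ≫ (Y ↘ Spec (CommRingCat.of k)) = X ↘ Spec (CommRingCat.of k)) [Flat f] :
    ∃ φ : Y.functionField →ₐ[k] X.functionField,
      letI := φ.toRingHom.toAlgebra
      Module.finrank Y.functionField X.functionField = f.finrank (genericPoint Y) := by
  haveI := CurvLib.isNoetherian k (X := X)
  haveI := CurvLib.isNoetherian k (X := Y)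
  have hgen := gen_to_gen (k := k) hdim hdimY f
  let φ₀ : Y.functionField →+* X.functionField :=
    (Y.presheaf.stalkSpecializes (specializes_of_eq hgen) ≫ f.stalkMap (genericPoint X)).hom
  refine ⟨{ φ₀ with commutes' := fun c => ?_ }, ?_⟩
  · show f.stalkMap (genericPoint X) (Y.presheaf.stalkSpecializes (specializes_of_eq hgen)
      (Y.presheaf.germ ⊤ (genericPoint Y) trivial _)) = _
    rw [TopCat.Presheaf.germ_stalkSpecializes_apply, Scheme.Hom.germ_stalkMap_apply]
    refine congrArg (X.presheaf.germ ⊤ (genericPoint X) trivial) ?_
    show ((Y ↘ Spec (CommRingCat.of k)).appTop ≫ f.appTop) _ = _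
    rw [← Scheme.Hom.comp_appTop, hf]
    rfl
  letI : Algebra Y.functionField X.functionField := φ₀.toAlgebra
  show Module.finrank Y.functionField X.functionField = _
  have hfib : ∀ z, f z = f (genericPoint X) → z = genericPoint X := fun z hz => by
    by_contra hne
    have h1 := f.isClosedMap _ (CurveDualLib.isClosed_of_ne_generic (k := k) hdim hne)
    rw [Set.image_singleton, hz, hgen] at h1
    have hall : ∀ c : Y, c = genericPoint Y := fun c =>
      Set.mem_singleton_iff.mp (((genericPoint_spec _).specializes trivial).mem_closed h1 (Set.mem_singleton _))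
    haveI : Subsingleton Y := ⟨fun a b => (hall a).trans (hall b).symm⟩
    have h0 := topologicalKrullDim_zero_of_discreteTopology Y
    rw [hdimY] at h0
    exact absurd h0 (by simp)
  rw [← AVAmpleLib.genRank_push_structure f, CurvLib.genRank,
    DegPullLib.finrank_stalk_push f f.isClosedMap CurvLib.isInvertible_structureModule hfib _ hgen rfl]
  letI : Algebra (Y.residueField (f (genericPoint X))) (X.residueField (genericPoint X)) :=
    (f.residueFieldMap (genericPoint X)).hom.toAlgebra
  have hb : ∀ {R : Type u} [CommRing R] [IsLocalRing R], IsField R → Function.Bijective (IsLocalRing.residue R) := by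
    intro R _ _ h
    refine ⟨(RingHom.injective_iff_ker_eq_bot _).mpr ?_, IsLocalRing.residue_surjective⟩
    rw [IsLocalRing.ker_residue]
    exact (IsLocalRing.isField_iff_maximalIdeal_eq).mp h
  have hX : IsField (X.presheaf.stalk (genericPoint X)) := (inferInstance : Field X.functionField).toIsField
  have hY : IsField (Y.presheaf.stalk (f (genericPoint X))) := GeomRedFieldLib.isField_stalk_generic hgen
  let e : Y.functionField ≃+* Y.residueField (f (genericPoint X)) :=
    (Y.presheaf.stalkCongr (Inseparable.of_eq hgen)).symm.commRingCatIsoToRingEquiv.trans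
      (RingEquiv.ofBijective _ (hb hY))
  show Module.finrank Y.functionField X.functionField = Module.finrank (Y.residueField (f (genericPoint X))) (X.residueField (genericPoint X))
  refine Algebra.finrank_eq_of_equiv_equiv e (RingEquiv.ofBijective _ (hb hX)) (RingHom.ext fun c => ?_)
  exact IsLocalRing.ResidueField.map_residue (f.stalkMap (genericPoint X)).hom
    (Y.presheaf.stalkSpecializes (specializes_of_eq hgen) c)

end PlaneCurveLib

end
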