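import Groth.Agent.FFLib.Ext
import Groth.Agent.FFLib.DegOne

/-!
# A plane model of degree four and genus three is not a double cover of a genus zero field
-/

open WithZero Module
open scoped IntermediateField

namespace PlaneCurveLib

open FunFld Groth.Agent.FFLib

variable {k K K' : Type*} [Field k] [Field K] [Field K'] [Algebra k K] [Algebra K K'] [Algebra k K']
  [IsScalarTower k K K']

/-- Every space of degree at most four and dimension at least three is a translate of the canonical one. -/
theorem exists_mul_eq {F : Type*} [Field F] [Algebra k F] (hF : IsFunctionField k F) (hg : genus k F = 3)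
    {C : Divisor k F} (hC : IsCanonical k F C) {B : Divisor k F} (hdeg : B.deg ≤ 4) (hell : 3 ≤ ell B) :
    ∃ z : F, z ≠ 0 ∧ (L B).map (LinearMap.mulLeft k z) = L C := by
  have h1 := riemann_roch hF hC B
  have h2 := (canonical_ell_deg hF hC).1
  rw [hg] at h1 h2
  have hpos : 0 < ell (C - B) := by omega
  haveI := finiteDimensional_L hF (C - B)
  haveI := finiteDimensional_L hF C
  obtain ⟨⟨z, hz⟩, hz0⟩ : ∃ z : L (C - B), z ≠ 0 := by
    haveI : Nontrivial (L (C - B)) := Module.nontrivial_of_finrank_pos (R := k) hpos
    exact exists_ne 0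
  replace hz0 : z ≠ 0 := fun h => hz0 (Subtype.ext h)
  refine ⟨z, hz0, Submodule.eq_of_le_of_finrank_le ?_ ?_⟩
  · rintro _ ⟨w, hw, rfl⟩ P
    show P.1 (z * w) ≤ exp (C P)
    rw [map_mul, show C P = (C - B) P + B P by simp, exp_add]
    exact mul_le_mul' (hz P) (hw P)
  · rw [← (Submodule.equivMapOfInjective _ (mul_right_injective₀ hz0) (L B)).finrank_eq]
    exact h2.le.trans hell

/-- **A plane model of degree four of a field of genus three is not a quadratic extension of a field of
genus zero.** -/
theorem not_double_cover [FiniteDimensional K K'] (hK : IsFunctionField k K) (hK' : IsFunctionField k K')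
    (hg : genus k K = 0) (hg' : genus k K' = 3) (h2 : finrank K K' = 2) (x y : K') (D : Divisor k K')
    (hD : D.deg ≤ 4) (h1 : (1 : K') ∈ L D) (hx : x ∈ L D) (hy : y ∈ L D)
    (hgen : IntermediateField.adjoin k ({x, y} : Set K') = ⊤) : False := by
  classical
  have hind : LinearIndependent k ![(1 : K'), x, y] := by
    rw [Fintype.linearIndependent_iff]
    intro g hsum i
    simp [Fin.sum_univ_three] at hsum
    have key : ∀ {a b : K'}, IntermediateField.adjoin k ({a, b} : Set K') = ⊤ →
        b ∈ IntermediateField.adjoin k ({a} : Set K') → False := fun {a b} hab hb => by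
      have htop : IntermediateField.adjoin k ({a} : Set K') = ⊤ := by
        refine eq_top_iff.2 (hab ▸ IntermediateField.adjoin_le_iff.2 ?_)
        rintro c (rfl | rfl)
        · exact IntermediateField.mem_adjoin_simple_self k _
        · exact hb
      have := genus_eq_zero_of_top hK' htop
      omega
    have h20 : g 2 = 0 := by
      by_contra h
      refine key hgen ?_
      have hy' : y = (g 2)⁻¹ • (-(g 0 • (1 : K')) - g 1 • x) := by
        rw [eq_inv_smul_iff₀ h]
        linear_combination (norm := (simp [Algebra.smul_def]; ring)) hsum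
      rw [hy', Algebra.smul_def, Algebra.smul_def, Algebra.smul_def, mul_one]
      exact mul_mem (IntermediateField.algebraMap_mem _ _) (sub_mem (neg_mem (IntermediateField.algebraMap_mem _ _))
        (mul_mem (IntermediateField.algebraMap_mem _ _) (IntermediateField.mem_adjoin_simple_self k x)))
    have h10 : g 1 = 0 := by
      by_contra h
      rw [Set.pair_comm] at hgen
      refine key hgen ?_
      have hx' : x = (g 1)⁻¹ • (-(g 0 • (1 : K'))) := by
        rw [eq_inv_smul_iff₀ h]
        linear_combination (norm := (simp [Algebra.smul_def, h20])) hsum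
      rw [hx', Algebra.smul_def, Algebra.smul_def, mul_one]
      exact mul_mem (IntermediateField.algebraMap_mem _ _) (neg_mem (IntermediateField.algebraMap_mem _ _))
    have h00 : g 0 = 0 := by
      rw [h20, h10] at hsum
      simpa using hsum
    fin_cases i <;> assumption
  haveI := finiteDimensional_L hK' D
  have h3 : 3 ≤ ell D := by
    have hmem : Submodule.span k (Set.range ![(1 : K'), x, y]) ≤ L D := by
      rw [Submodule.span_le, Set.range_subset_iff]
      intro i
      fin_cases i <;> assumption
    have := Submodule.finrank_mono hmem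
    rw [finrank_span_eq_card hind, Fintype.card_fin] at this
    exact this
  obtain ⟨C₀, hC₀⟩ := exists_canonical hK
  obtain ⟨C, hC⟩ := exists_canonical hK'
  have hd0 := (canonical_ell_deg hK hC₀).2
  rw [hg] at hd0
  have hAdeg : (-C₀).deg = 2 := by rw [← zero_sub, deg_sub, deg_zero, hd0]; norm_num
  have hAell : ell (-C₀) = 3 := by
    have := ell_eq_of_deg_ge hK (D := -C₀) (by rw [hAdeg, hg]; norm_num)
    rw [hAdeg, hg] at this
    omega
  let A' := conorm K' (-C₀)
  have hA'deg : A'.deg = 4 := by rw [deg_conorm hK.1, hAdeg, h2]; norm_num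
  let τ := IsScalarTower.toAlgHom k K K'
  have hle : (L (-C₀)).map τ.toLinearMap ≤ L A' := by
    rintro _ ⟨a, ha, rfl⟩
    show algebraMap K K' a ∈ L A'
    rcases eq_or_ne a 0 with rfl | ha0
    · rw [map_zero]; exact zero_mem _
    rw [mem_L_iff ((map_ne_zero (algebraMap K K')).2 ha0)]
    intro Q
    rw [ord_algebraMap hK.1, conorm_apply hK.1]
    have := (mem_L_iff ha0).1 ha (underPlace hK.1 Q)
    have h0 : (0 : ℤ) ≤ underIdx hK.1 Q := by positivity
    nlinarith
  haveI := finiteDimensional_L hK' A'
  have hτ : Function.Injective τ.toLinearMap := (algebraMap K K').injective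
  have hA'ell : 3 ≤ ell A' := by
    have := Submodule.finrank_mono hle
    rwa [← (Submodule.equivMapOfInjective _ hτ (L (-C₀))).finrank_eq, ← ell, ← ell, hAell] at this
  obtain ⟨z, hz0, hz⟩ := exists_mul_eq hK' hg' hC hD h3
  obtain ⟨w, hw0, hw⟩ := exists_mul_eq hK' hg' hC hA'deg.le hA'ell
  haveI := finiteDimensional_L hK' C
  have himg : (L (-C₀)).map τ.toLinearMap = L A' := by
    refine Submodule.eq_of_le_of_finrank_le hle ?_
    rw [← (Submodule.equivMapOfInjective _ hτ (L (-C₀))).finrank_eq,
      (Submodule.equivMapOfInjective (LinearMap.mulLeft k w) (mul_right_injective₀ hw0) (L A')).finrank_eq]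
    show finrank k ((L A').map (LinearMap.mulLeft k w)) ≤ _
    rw [hw, ← ell, ← ell, (canonical_ell_deg hK' hC).1, hg', hAell]
  have hsub : ∀ u ∈ L D, ∃ a : K, z * u = w * algebraMap K K' a := fun u hu => by
    have hu' : z * u ∈ L C := hz ▸ Submodule.mem_map_of_mem (f := LinearMap.mulLeft k z) hu
    rw [← hw, ← himg] at hu'
    obtain ⟨_, ⟨a, -, rfl⟩, ha⟩ := hu'
    exact ⟨a, ha.symm⟩
  obtain ⟨a₀, ha₀⟩ := hsub 1 h1
  rw [mul_one] at ha₀
  have hmem : ∀ u ∈ L D, u ∈ τ.fieldRange := fun u hu => by
    obtain ⟨a, ha⟩ := hsub u hu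
    have ha0 : algebraMap K K' a₀ ≠ 0 := fun h => hz0 (by rw [ha₀, h, mul_zero])
    refine ⟨a / a₀, ?_⟩
    show algebraMap K K' (a / a₀) = u
    rw [map_div₀, div_eq_iff ha0]
    rw [ha₀] at ha
    exact mul_left_cancel₀ hw0 (by linear_combination -ha)
  have htop : (⊤ : IntermediateField k K') ≤ τ.fieldRange := hgen ▸ IntermediateField.adjoin_le_iff.2 (by
    rintro c (rfl | rfl)
    · exact hmem _ hx
    · exact hmem _ hy)
  have hs : Function.Surjective (algebraMap K K') := fun c => htop (IntermediateField.mem_top (x := c))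
  have h1' : finrank K K' ≤ 1 := finrank_le_one (1 : K') fun c => by
    obtain ⟨a, rfl⟩ := hs c
    exact ⟨a, by rw [Algebra.smul_def, mul_one]⟩
  omega

end PlaneCurveLib
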