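import Groth.Agent.PlaneCurveLib.Coh
import Groth.Agent.S4466
import Groth.Agent.S0927
import Groth.Agent.CohBCLib.Cons
import Groth.Agent.HilbPolyLib.Twist
import Groth.Agent.RRVanLib.Main
import Groth.Agent.AmpleDevLib.Pull
import Groth.Agent.CurveVBLib.Basic

/-!
# The degree of a plane curve
-/

set_option autoImplicit false
set_option linter.style.haveILetI false

universe u

open CategoryTheory CategoryTheory.Limits AlgebraicGeometry TopologicalSpace

noncomputable section

namespace PlaneCurveLib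

variable {k : Type u} [Field k] {d : ℕ}

/-- The hyperplane class restricted to a hypersurface. -/
abbrev hyperplane {r : ℕ} (G : LefPen.Form r k d) : (LefPen.hypIdeal G).subscheme.Modules :=
  (Scheme.Modules.pullback (LefPen.hypIdeal G).subschemeι).obj (Twist.twistProjSpace r k 1)

theorem isInvertible_hyperplane {r : ℕ} (G : LefPen.Form r k d) : PicF.IsInvertible (hyperplane G) :=
  AmpleDevLib.isInvertible_pb _ (PicPnLib.twist_inv r k 1)

/-- Euler characteristics of the twisting sheaves on the plane. -/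
theorem euler_twist_plane [(CohB1.ProjSpace 2 k).Over (Spec (CommRingCat.of k))]
    (hP : CohB1.ProjSpace 2 k ↘ Spec (CommRingCat.of k) = CohB1.ProjSpace.toSpec 2 k) (n : ℤ) :
    Curv2.euler k (CohB1.ProjSpace 2 k) (Twist.twistProjSpace 2 k n) = Ring.choose (n + 2) 2 := by
  rename_i inst
  obtain rfl : inst = ⟨CohB1.ProjSpace.toSpec 2 k⟩ := by
    cases inst; cases hP; rfl
  rw [CurvLib.euler_eq_sum (k := k) (d := 3) fun q hq =>
    PnCohLib.subsingleton_HH_twist (n := 2) (R := k) n q (by omega) (by omega)]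
  exact Groth.Agent.S4466.result k 2 two_pos n

/-- **A plane curve of degree `d` meets a line in `d` points.** -/
theorem deg_hyperplane (G : LefPen.Form 2 k d) (hG : G ≠ 0)
    [((LefPen.hypIdeal G).subscheme).Over (Spec (CommRingCat.of k))]
    (hinst : (LefPen.hypIdeal G).subscheme ↘ (Spec (CommRingCat.of k)) =
      (LefPen.hypIdeal G).subschemeι ≫ CohB1.ProjSpace.toSpec 2 k) :
    Curv2.deg k (LefPen.hypIdeal G).subscheme (hyperplane G) 1 = d := by
  let P := CohB1.ProjSpace 2 k
  letI : P.Over (Spec (CommRingCat.of k)) := ⟨CohB1.ProjSpace.toSpec 2 k⟩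
  haveI : IsProper (P ↘ Spec (CommRingCat.of k)) := ProjDegLib.toSpec_isProper k 2
  haveI : IsNoetherian P := CurvLib.isNoetherian k
  let I := LefPen.hypIdeal G
  let ι := I.subschemeι
  haveI : Coh.IsQCoh (Coh.structureModule I.subscheme) := QCohLib.isQCoh_unit
  haveI : IsLocallyNoetherian I.subscheme := LocallyOfFiniteType.isLocallyNoetherian ι
  have hE : ∀ m : ℤ, PicF.IsInvertible (Twist.twistProjSpace 2 k m) := PicPnLib.twist_inv 2 k
  obtain ⟨eI⟩ := nonempty_idealMod_iso G hG
  obtain ⟨e0⟩ := PicPnLib.twist_zero 2 k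
  let S := CurvLib.idealSeq I
  have hS : S.ShortExact := CurvLib.idealSeq_shortExact I
  have h3 : Coh.IsCoh S.X₃ := CurvLib.isCoh_quotMod I
  have h2 : Coh.IsCoh S.X₂ := DevissLib.isCoh_structureModule _
  have h1 : Coh.IsCoh S.X₁ := QCohLib.isCoh_of_iso eI.symm (CurvLib.isCoh_of_isInvertible (hE _))
  -- the structure sheaf
  have hO := CurvLib.euler_add_of_isCoh (k := k) hS h1 h2 h3
  have hO3 := (PushLinLib.euler_push k ι hinst.symm (Coh.structureModule I.subscheme)).2
  -- its twist
  let E := Twist.twistProjSpace 2 k 1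
  have hT := CurvLib.euler_add_of_isCoh (k := k) (HilbPolyLib.shortExact_tensor (hE 1) hS)
    (HilbPolyLib.isCoh_tensor (hE 1) h1) (HilbPolyLib.isCoh_tensor (hE 1) h2) (HilbPolyLib.isCoh_tensor (hE 1) h3)
  obtain ⟨et⟩ := PicPnLib.twist_add 2 k 1 (-(d : ℤ))
  have hT1 : Curv2.euler k P (S.map (CurvLib.tensorLeft' E)).X₁ =
      Curv2.euler k P (Twist.twistProjSpace 2 k (1 + -(d : ℤ))) :=
    CurvLib.euler_congr (HilbPolyLib.congrRight E eI ≪≫ et)
  have hT2 : Curv2.euler k P (S.map (CurvLib.tensorLeft' E)).X₂ = Curv2.euler k P E :=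
    CurvLib.euler_congr (HilbPolyLib.swapIso _ _ ≪≫ HilbPolyLib.unitLeft E)
  obtain ⟨ep⟩ := Groth.Agent.S0927.result ι (Coh.structureModule I.subscheme) E
    (CurveVBLib.isFinLocFree_of_rank (CurvLib.locFree_of_isInvertible (hE 1))) 0
  haveI : Coh.IsQCoh (hyperplane G) := TwistLib.isQCoh_of_isInvertible (isInvertible_hyperplane G)
  have hT3 : Curv2.euler k P (S.map (CurvLib.tensorLeft' E)).X₃ = Curv2.euler k I.subscheme (hyperplane G) :=
    (CurvLib.euler_congr (HilbPolyLib.congrRight E (CohBCLib.rpushZero ι _).symm ≪≫ ep ≪≫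
      CohBCLib.rpushZero ι _ ≪≫
      (Coh.push ι).mapIso (HilbPolyLib.swapIso _ _ ≪≫ HilbPolyLib.unitLeft (hyperplane G)))).trans
      (PushLinLib.euler_push k ι hinst.symm (hyperplane G)).2.symm
  have hX1 : Curv2.euler k P S.X₁ = Curv2.euler k P (Twist.twistProjSpace 2 k (-(d : ℤ))) := CurvLib.euler_congr eI
  have hX2 : Curv2.euler k P S.X₂ = Curv2.euler k P (Twist.twistProjSpace 2 k 0) := CurvLib.euler_congr e0.symm
  rw [hT1, hT2, hT3] at hT
  have hO3' : Curv2.euler k P S.X₃ = Curv2.euler k I.subscheme (Coh.structureModule I.subscheme) := hO3.symm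
  rw [hX1, hX2, hO3'] at hO
  rw [euler_twist_plane rfl, euler_twist_plane rfl] at hT hO
  have hd : Curv2.deg k I.subscheme (hyperplane G) 1 =
      Curv2.euler k I.subscheme (hyperplane G) - Curv2.euler k I.subscheme (Coh.structureModule I.subscheme) := by
    simp [Curv2.deg]
  rw [hd]
  have c : ∀ a : ℤ, 2 * Ring.choose a 2 = a * (a - 1) := fun a => by
    have := Ring.descPochhammer_eq_factorial_smul_choose a 2
    rw [← Polynomial.eval_eq_smeval] at this
    simp [descPochhammer_succ_right, Polynomial.eval_mul] at this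
    linarith
  have c1 := c (0 + 2); have c2 := c (1 + 2); have c3 := c (-(d : ℤ) + 2); have c4 := c (1 + -(d : ℤ) + 2)
  nlinarith

end PlaneCurveLib

end
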