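import Groth.Agent.CIGenLib.Hyp
import Groth.Agent.PnCohLib.Twist
import Groth.Agent.AmpleFinGenLib.Divisor
import Groth.Agent.ProjClosedLib.Sections
import Groth.Agent.PicPnLib.Twist
import Groth.Agent.PushLinLib.HH
import Groth.Agent.CohCmpLib.SectionPair
import Groth.Agent.CurvLib.Divisor
import Groth.Agent.GenusZeroLib.PSpace
import Groth.Agent.GenusZeroLib.Mult
import Groth.Agent.ProjDegLib.Criterion

/-!
# Cohomology of hypersurfaces of projective space
-/

set_option autoImplicit false
set_option linter.unusedSectionVars false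
set_option linter.style.haveILetI false
universe u

open CategoryTheory CategoryTheory.Limits AlgebraicGeometry TopologicalSpace MvPolynomial
open GradedCechLib (deh deh₀)

noncomputable section

namespace PlaneCurveLib

variable {k : Type u} [Field k] {r d : ℕ}

/-- A form on a chart as a fraction. -/
theorem fr_eq_deh (G : LefPen.Form r k d) (j : Fin (r + 1)) :
    (show Γ(CohB1.ProjSpace r k, LefPen.chart r k j) from
      ProjClosedLib.fr (CohB1.polyGrading r k) (GradedCechLib.X_mem r k j) G.2) = deh r k j G.1 := by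
  rw [← CIGen.dehom_eq]
  rfl

/-- The ideal sheaf of a hypersurface is a twist of the structure sheaf. -/
theorem nonempty_idealMod_iso (G : LefPen.Form r k d) (hG : G ≠ 0) :
    Nonempty (ClSub.idealMod (LefPen.hypIdeal G) ≅ Twist.twistProjSpace r k (-(d : ℤ))) := by
  let P := CohB1.ProjSpace r k
  haveI : IsIntegral P := GenusZeroLib.isIntegral_projSpace k r
  haveI : IsProper (CohB1.ProjSpace.toSpec r k) := ProjDegLib.toSpec_isProper k r
  let M := Twist.twistProjSpace r k (d : ℤ)
  have hM : PicF.IsInvertible M := PicPnLib.twist_inv r k d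
  let a : Γ(M, ⊤) := Twist.globalOf (CohB1.polyGrading r k) ⟨G.1, G.2⟩
  let s := QCohLib.unitHom M a
  have hpow : ∀ j : Fin (r + 1), (X j : MvPolynomial (Fin (r + 1)) k) ^ d ∈ CohB1.polyGrading r k d := fun j =>
    MvPolynomial.isHomogeneous_X_pow j d
  let gen : ∀ j, Γ(M, LefPen.chart r k j) := fun j =>
    AmpleLib.res M (le_top : LefPen.chart r k j ≤ ⊤) (Twist.globalOf (CohB1.polyGrading r k) ⟨X j ^ d, hpow j⟩)
  have hc : ∀ j, (show Γ(P, LefPen.chart r k j) from deh r k j G.1) • gen j =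
        MeroLib.secOn s (LefPen.chart r k j) := fun j => by
    rw [← fr_eq_deh]
    refine (ProjClosedLib.fr_smul_globalOf (CohB1.polyGrading r k) (GradedCechLib.X_mem r k j) G.2 (hpow j)).trans ?_
    exact (one_smul Γ(P, LefPen.chart r k j) (show Γ(M, LefPen.chart r k j) from AmpleLib.res M le_top a)).symm
  have hs : s ≠ 0 := by
    intro h0
    obtain ⟨s₀, hs₀⟩ : ∃ m, coeff m G.1 ≠ 0 := MvPolynomial.exists_coeff_ne_zero fun h => hG (Subtype.ext h)
    have h1 := hc 0
    rw [show MeroLib.secOn s (LefPen.chart r k 0) = 0 by rw [h0]; rfl] at h1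
    have h2 : deh r k 0 G.1 = 0 :=
      ((ProjClosedLib.globalOf_pow_genOn (CohB1.polyGrading r k) (GradedCechLib.X_mem r k 0) (hpow 0)) _ le_rfl).1 (by
        simp only [AmpleLib.res_refl]
        exact h1.trans (zero_smul Γ(P, LefPen.chart r k 0) (gen 0)).symm)
    have h3 : deh₀ r k 0 G.1 = 0 := (GradedCechLib.toSec_bijective r k 0).1 (h2.trans (map_zero _).symm)
    have h4 := congrArg HomogeneousLocalization.val h3
    rw [GradedCechLib.val_deh₀_homogeneous r k 0 G.1 d G.2, HomogeneousLocalization.val_zero,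
      Localization.mk_eq_mk', IsLocalization.mk'_eq_zero_iff] at h4
    obtain ⟨⟨_, m, rfl⟩, hm⟩ := h4
    exact hs₀ (by rw [(mul_eq_zero.1 hm).resolve_left (pow_ne_zero m (X_ne_zero 0))]; simp)
  haveI : Mono s := CurvLib.mono_of_ne_zero CurvLib.isInvertible_structureModule hM hs
  have hZ : LefPen.hypIdeal G = PicF2.zeroScheme M s := by
    refine Scheme.IdealSheafData.ext_of_iSup_eq_top (fun j => ⟨LefPen.chart r k j, CIGen.chart_affine j⟩)
      (QCohLib.iSup_stdOpen r k) fun j => ?_
    rw [CIGen.hypIdeal_chart]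
    exact (MeroLib.zeroScheme_ideal_of_genOn hM s (W := ⟨LefPen.chart r k j, CIGen.chart_affine j⟩)
      (ProjClosedLib.globalOf_pow_genOn (CohB1.polyGrading r k) (GradedCechLib.X_mem r k j) (hpow j)) (hc j)).symm
  obtain ⟨e⟩ := AmpleFinGenLib.idealMod_tensor_iso hM s
  obtain ⟨e'⟩ := PicPnLib.twist_add r k (-(d : ℤ)) (d : ℤ)
  obtain ⟨e0⟩ := PicPnLib.twist_zero r k
  rw [hZ]
  exact CohCmpLib.nonempty_iso_of_inverse_unique (HilbPolyLib.swapIso _ _ ≪≫ e)
    (HilbPolyLib.swapIso _ _ ≪≫ e' ≪≫ eqToIso (congrArg _ (neg_add_cancel _)) ≪≫ e0)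

/-- Cohomology of a plane curve. -/
theorem finrank_HH_plane (G : LefPen.Form 2 k d) (hG : G ≠ 0) (hd : 1 ≤ d)
    [((LefPen.hypIdeal G).subscheme).Over (Spec (CommRingCat.of k))]
    (hinst : (LefPen.hypIdeal G).subscheme ↘ (Spec (CommRingCat.of k)) =
      (LefPen.hypIdeal G).subschemeι ≫ CohB1.ProjSpace.toSpec 2 k) :
    Module.finrank k (Coh.HH (LefPen.hypIdeal G).subscheme (Coh.structureModule (LefPen.hypIdeal G).subscheme) 0) = 1 ∧
      Module.finrank k (Coh.HH (LefPen.hypIdeal G).subscheme (Coh.structureModule (LefPen.hypIdeal G).subscheme) 1) =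
        (d - 1) * (d - 2) / 2 := by
  classical
  let P := CohB1.ProjSpace 2 k
  letI : P.Over (Spec (CommRingCat.of k)) := ⟨CohB1.ProjSpace.toSpec 2 k⟩
  haveI : IsProper (P ↘ Spec (CommRingCat.of k)) := ProjDegLib.toSpec_isProper k 2
  let I := LefPen.hypIdeal G
  haveI : Coh.IsQCoh (Coh.structureModule I.subscheme) := QCohLib.isQCoh_unit
  have hpush := (PushLinLib.euler_push k I.subschemeι hinst.symm (Coh.structureModule I.subscheme)).1
  obtain ⟨eI⟩ := nonempty_idealMod_iso G hG
  obtain ⟨e0⟩ := PicPnLib.twist_zero 2 k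
  let S := CurvLib.idealSeq I
  have hS : S.ShortExact := CurvLib.idealSeq_shortExact I
  have hI : ∀ q, q < 2 → Subsingleton (Coh.HH P S.X₁ q) := fun q hq => by
    haveI := PnCohLib.subsingleton_HH_twist (n := 2) (R := k) (-(d : ℤ)) q (by omega) (by omega)
    exact PnTildeLib.subsingleton_HH_of_iso eI q this
  have hO : ∀ q, 1 ≤ q → Subsingleton (Coh.HH P S.X₂ q) := fun q hq =>
    PnTildeLib.subsingleton_HH_of_iso e0.symm q (PnCohLib.subsingleton_HH_twist (n := 2) (R := k) 0 q (by omega) (by omega))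
  haveI := hI 0 (by norm_num)
  haveI := hI 1 (by norm_num)
  haveI := hO 1 le_rfl
  haveI := hO 2 (by norm_num)
  refine ⟨(hpush 0).trans ?_, (hpush 1).trans ?_⟩
  · have hb : Function.Bijective (CurvLib.hMap (k := k) S.g 0) := by
      refine ⟨(injective_iff_map_eq_zero _).2 fun z hz => ?_, fun z => ?_⟩
      · obtain ⟨w, rfl⟩ : z ∈ LinearMap.range (CurvLib.hMap (k := k) S.f 0) := by
          rw [CurvLib.exact₂ hS 0]; exact hz
        rw [Subsingleton.elim w 0, map_zero]
      · refine LinearMap.mem_range.1 ?_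
        rw [CurvLib.exact₃ hS 0]
        exact LinearMap.mem_ker.2 (Subsingleton.elim _ _)
    obtain ⟨e⟩ := PnCohLib.exists_HH_zero (n := 2) (R := k) (by norm_num) 0
    refine (LinearEquiv.ofBijective _ hb).finrank_eq.symm.trans ?_
    refine ((CurvLib.hIso (k := k) e0.symm 0).finrank_eq).trans ?_
    refine (e.finrank_eq).trans ?_
    haveI : Finite (PnCohLib.Deg 2 0) := Nat.finite_of_card_ne_zero (by rw [PnCohLib.card_deg]; norm_num)
    haveI := Fintype.ofFinite (PnCohLib.Deg 2 0)
    rw [Module.finrank_finsupp_self, ← Nat.card_eq_fintype_card, PnCohLib.card_deg]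
    rfl
  · have hb : Function.Bijective (CurvLib.hDel (k := k) hS 1) := by
      refine ⟨(injective_iff_map_eq_zero _).2 fun z hz => ?_, fun z => ?_⟩
      · obtain ⟨w, rfl⟩ : z ∈ LinearMap.range (CurvLib.hMap (k := k) S.g 1) := by
          rw [CurvLib.exact₃ hS 1]; exact hz
        rw [Subsingleton.elim w 0, map_zero]
      · refine LinearMap.mem_range.1 ?_
        rw [CurvLib.exact₁ hS 1]
        exact LinearMap.mem_ker.2 (Subsingleton.elim _ _)
    refine (LinearEquiv.ofBijective _ hb).finrank_eq.trans ?_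
    refine ((CurvLib.hIso (k := k) eI 2).finrank_eq).trans ?_
    rcases Nat.lt_or_ge d 3 with h3 | h3
    · haveI := PnCohLib.subsingleton_HH_twist (n := 2) (R := k) (-(d : ℤ)) 2 (by omega) (by omega)
      rw [Module.finrank_zero_of_subsingleton]
      interval_cases d <;> rfl
    · obtain ⟨m, rfl⟩ : ∃ m, d = m + 3 := ⟨d - 3, by omega⟩
      obtain ⟨e⟩ := PnCohLib.exists_HH_top (n := 2) (R := k) m
      haveI : Finite (PnCohLib.Deg 2 m) :=
        Nat.finite_of_card_ne_zero (by rw [PnCohLib.card_deg]; exact (Nat.choose_pos (Nat.le_add_left m 2)).ne')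
      haveI := Fintype.ofFinite (PnCohLib.Deg 2 m)
      rw [show (-((m + 3 : ℕ) : ℤ)) = -(((2 : ℕ) : ℤ) + 1 + m) by push_cast; ring, e.finrank_eq,
        Module.finrank_finsupp_self, ← Nat.card_eq_fintype_card, PnCohLib.card_deg,
        Nat.choose_symm_add.symm, Nat.choose_two_right]
      congr 1
      show (2 + m) * (2 + m - 1) = (m + 3 - 1) * (m + 3 - 2)
      congr 1 <;> omega

end PlaneCurveLib
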